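import Cfsg.Prelude.Def_KGroupFacts
import Mathlib.Algebra.Group.Subgroup.Finite
import Mathlib.GroupTheory.Commutator.Basic
import Mathlib.Tactic.Group

/-!
A centrally closed perfect central extension computes the Schur multiplier.
-/

set_option autoImplicit false

namespace CfsgLib.SLCover

open scoped commutatorElement

universe u v w

variable {P : Type u} {S : Type v} [Group P] [Group S]

/-- commutators only depend on the image modulo a central kernel -/
theorem commutator_le_of_map_eq_top (p : P →* S) (hc : p.ker ≤ Subgroup.center P) (H : Subgroup P)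
    (hH : H.map p = ⊤) : commutator P ≤ H := by
  rw [commutator_def, Subgroup.commutator_le]
  intro a _ b _
  obtain ⟨a', ha', ea⟩ : p a ∈ H.map p := hH ▸ Subgroup.mem_top _
  obtain ⟨b', hb', eb⟩ : p b ∈ H.map p := hH ▸ Subgroup.mem_top _
  have hz : a'⁻¹ * a ∈ Subgroup.center P := hc (by simp [MonoidHom.mem_ker, ea])
  have hw : b'⁻¹ * b ∈ Subgroup.center P := hc (by simp [MonoidHom.mem_ker, eb])
  have e : ⁅a, b⁆ = ⁅a', b'⁆ := by
    have h1 : a = a' * (a'⁻¹ * a) := by group
    have h2 : b = b' * (b'⁻¹ * b) := by group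
    generalize a'⁻¹ * a = z at hz h1
    generalize b'⁻¹ * b = w at hw h2
    subst h1 h2
    have hz' := Subgroup.mem_center_iff.1 hz
    have hw' := Subgroup.mem_center_iff.1 hw
    simp only [commutatorElement_def, _root_.mul_inv_rev]
    calc a' * z * (b' * w) * (z⁻¹ * a'⁻¹) * (w⁻¹ * b'⁻¹)
        = a' * (z * (b' * w * z⁻¹)) * a'⁻¹ * (w⁻¹ * b'⁻¹) := by group
      _ = a' * b' * (w * a'⁻¹) * (w⁻¹ * b'⁻¹) := by rw [← hz' (b' * w * z⁻¹)]; group
      _ = _ := by rw [← hw' a'⁻¹]; group
  rw [e]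
  exact mul_mem (mul_mem (mul_mem ha' hb') (inv_mem ha')) (inv_mem hb')

/-- A finite perfect centrally closed central extension `S` of `Q` is a Schur cover of `Q`. -/
theorem hasSchurMultiplier_of_closed {Q : Type u} {S : Type u} [Group Q] [Group S] [Finite S]
    (π : S →* Q) (hπ : Function.Surjective π) (hker : π.ker ≤ Subgroup.center S)
    (hperf : commutator S = ⊤)
    (hclosed : ∀ (E : Type u) [Group E] [Finite E] (p : E →* S), Function.Surjective p →
      p.ker ≤ Subgroup.center E → commutator E = ⊤ → Function.Injective p)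
    {A : Type w} [CommGroup A] (e : π.ker ≃* A) : Cfsg.HasSchurMultiplier Q A := by
  refine ⟨⟨S, inferInstance, inferInstance, π, ⟨hπ, hker, hperf ▸ le_top⟩, ⟨e⟩⟩, ?_⟩
  intro Γ _ _ σ hσ
  obtain ⟨hσs, hσc, hσd⟩ := hσ
  have hQ : commutator Q = ⊤ := by
    rw [commutator_def, ← Subgroup.map_top_of_surjective π hπ, ← Subgroup.map_commutator,
      ← commutator_def, hperf]
  -- fibre product
  let R : Subgroup (Γ × S) := (σ.comp (MonoidHom.fst Γ S)).eqLocus (π.comp (MonoidHom.snd Γ S))
  let p : R →* S := (MonoidHom.snd Γ S).comp R.subtype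
  have hps : Function.Surjective p := fun s => by
    obtain ⟨g, hg⟩ := hσs (π s)
    exact ⟨⟨(g, s), hg⟩, rfl⟩
  have hpc : p.ker ≤ Subgroup.center R := by
    rintro ⟨⟨g, s⟩, hg⟩ hp
    have hs : s = 1 := hp
    subst hs
    have hg1 : g ∈ σ.ker := by
      have : σ g = π 1 := hg
      rwa [map_one] at this
    rw [Subgroup.mem_center_iff]
    rintro ⟨⟨g', s'⟩, hg'⟩
    apply Subtype.ext
    show (g' * g, s' * 1) = (g * g', 1 * s')
    rw [Subgroup.mem_center_iff.1 (hσc hg1) g', one_mul, mul_one]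
  set H := commutator R with hH
  have hHmap : H.map p = ⊤ := by
    rw [hH, commutator_def, Subgroup.map_commutator, Subgroup.map_top_of_surjective p hps,
      ← commutator_def, hperf]
  let q : H →* S := p.comp H.subtype
  have hqs : Function.Surjective q := fun s => by
    obtain ⟨x, hx, rfl⟩ : s ∈ H.map p := hHmap ▸ Subgroup.mem_top _
    exact ⟨⟨x, hx⟩, rfl⟩
  have hqc : q.ker ≤ Subgroup.center H := by
    intro x hx
    have := hpc (x := x.1) hx
    rw [Subgroup.mem_center_iff] at this ⊢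
    exact fun y => Subtype.ext (this y.1)
  have hHH : H ≤ ⁅H, H⁆ := by
    refine commutator_le_of_map_eq_top p hpc ⁅H, H⁆ ?_
    rw [Subgroup.map_commutator, hHmap, ← commutator_def, hperf]
  have hqp : commutator H = ⊤ := by
    apply Subgroup.map_injective H.subtype_injective
    rw [commutator_def, Subgroup.map_commutator, ← MonoidHom.range_eq_map, Subgroup.range_subtype]
    exact le_antisymm ((Subgroup.commutator_le).2 fun a ha b hb =>
      mul_mem (mul_mem (mul_mem ha hb) (inv_mem ha)) (inv_mem hb)) hHH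
  have hqi := hclosed H q hqs hqc hqp
  let eqv : H ≃* S := MulEquiv.ofBijective q ⟨hqi, hqs⟩
  let φ : S →* Γ := ((MonoidHom.fst Γ S).comp (R.subtype.comp H.subtype)).comp eqv.symm.toMonoidHom
  have hφ : ∀ s, σ (φ s) = π s := by
    intro s
    have h1 : σ (φ s) = π (q (eqv.symm s)) := (eqv.symm s).1.2
    rw [h1]
    congr 1
    exact eqv.apply_symm_apply s
  have hφs : φ.range = ⊤ := by
    rw [eq_top_iff]
    have hmap : φ.range.map σ = ⊤ := by
      rw [eq_top_iff]
      intro y _
      obtain ⟨s, rfl⟩ := hπ y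
      exact ⟨φ s, ⟨s, rfl⟩, hφ s⟩
    intro g _
    obtain ⟨x, hx, hxg⟩ : σ g ∈ φ.range.map σ := hmap ▸ Subgroup.mem_top _
    have hk : x⁻¹ * g ∈ σ.ker := by simp [MonoidHom.mem_ker, hxg]
    have := mul_mem hx (commutator_le_of_map_eq_top σ hσc _ hmap (hσd hk))
    rwa [mul_inv_cancel_left] at this
  let ρ : π.ker →* σ.ker := (φ.comp π.ker.subtype).codRestrict σ.ker fun s => by
    rw [MonoidHom.mem_ker, MonoidHom.comp_apply, hφ]
    exact s.2
  refine ⟨ρ.comp e.symm.toMonoidHom, ?_⟩
  rintro ⟨g, hg⟩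
  obtain ⟨s, hs⟩ : g ∈ φ.range := hφs ▸ Subgroup.mem_top _
  have hs' : s ∈ π.ker := by rw [MonoidHom.mem_ker, ← hφ, hs]; exact hg
  exact ⟨e ⟨s, hs'⟩, Subtype.ext (by simpa [ρ] using hs)⟩

end CfsgLib.SLCover
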